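import Cfsg.Agent.Lib.Helper12.TCG.Parts

/-! certificate data for SU32x54: the final table (generated, helper12) -/

set_option autoImplicit false
set_option maxRecDepth 100000

namespace Cfsg.Agent.Lib.Helper12.TCG.SU32x54

open Cfsg.Agent.Lib.Helper12.TC Cfsg.Agent.Lib.Helper12.TCG

/-- a part of the final table -/
def fr0 : List ℕ := [248095790499807498963125278250037864206172160, 289909688079358604211116351284264755886292993, 4181404595462773910950921622684265395257346, 9756593387397971310656635779923305161555972, 419532772038120506726056201582639826111299590, 328935995001397586972106952080209724270706695, 274577928912285360115132665466455698886885384, 411169993419439698804689828968220466928943113, 539399279141757699878164574216585095424245771, 314998030913851090792605537972879457751400460, 321967013954544479066536849665510552065015821, 515704738032933638591476531113255151339569166, 241126821748314213674339205298681181686988816, 440439723320198952539361798318213813816524817, 479466027749935334264860029422685150844551186, 51570498194627383122844090616451848350990355, 57145679260424855022691761215371181880770581, 62720862153911286592287470369104210346115095, 65508463445248643009176784842948496282615832, 282940721487861772714249507437675309768376346, 471103269568133589899068342898075178570350619, 423714184692028861737569444502434491848982556, 79446436837391377078184133142379744662126621, 85021609927820874268540698384608035502817311, 87809203326867897029320893258434040333074464, 90596808190505541635819525798164497271095329,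 96171990003994494025241119657053235747749923, 101747178629776479153916446395046567442645029, 466921874277267811496896407585725478202245159, 436258353284665237651642793687823631101460520, 373537504506111629190042614391043839238340649, 497585408229844106816192091207476565551087660, 333117401175318061184089282828910403652681773, 599332539672024972778769552116375520102318126, 610482912603596466255385903899402968772902959, 342873977947366758622624276192771701289779248, 570062833198906926364786251804648253612359729, 556124866785212388299651711046106076089942066, 458559101307804609072115337753928962165178420, 362387137223758568153993816063218957273792565, 589575985829159762178964179892850529520320575, 518492355441161850200383766935594015435784257, 377718894147759544604195818039183312975560772, 450196320446051048232419640246161025762590789, 623027082110077480460554556406073881547243590, 634177454875496435105546389294966116064428103, 501766796957647482974286080652764505174966344, 561700052752537183532552316276785803429937225, 572850426182571314588858094534516726109831242, 579819410220186675198154956552394394132545611, 210463318617214076080774717484768021633302604, 216038505581460769372700201820384611241295950, 221613692462630638651660479166498357930623056, 224401286277061004050893998718033902350368849]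

/-- the final table -/
def finrecs : List ℕ := fr0

/-- the bitmap of the live labels -/
def LIVE : ℕ := 4079875625903421052124119

/-- the bitmap of the labels of a part -/
def LIVE0 : ℕ := 4079875625903421052124119

end Cfsg.Agent.Lib.Helper12.TCG.SU32x54
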