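import Cfsg.Agent.Lib.Helper12.TCG.Parts

/-! certificate data for SU32x54: the table of the permutation representation (generated, helper12) -/

set_option autoImplicit false
set_option maxRecDepth 100000

namespace Cfsg.Agent.Lib.Helper12.TCG.SU32x54

open Cfsg.Agent.Lib.Helper12.TC Cfsg.Agent.Lib.Helper12.TCG

/-- the tree of the table -/
noncomputable def TR : Tr := .node 192 (.node 128 (.node 64 (.leaf 654744229897463395670235270728229499681582339266408414611901141055035179898115762803366294867616160912731697323464475083192164716136711429076258606932793520464483964852591671425388936381793907279907142774007619028991777475196141713969771843857937537758056607405779804491775143314664672105956314439460054805521434233798656) (.leaf 654744229897463395670235280946990356262595900451547819716627636607618934961296926361132195830304260598525383224775657051672260112258352852510068339848842823336541190582369662978453124725928615035421307604332941360169114037747302363402639413056502626897466460380869172428510748495413913057083083462857514926741582334918656)) (.leaf 630036900022834843871646803683844212603945545957938711748412774153044419698608036758708334066062867785404811620049366472783644715846395807922575130170613329834847260212995788990303970940650081693298039457882751047200660113657814821850076769633835170121574989680844191593514096411320040485273579872878286886825655093166081)) (.node 320 (.node 256 (.leaf 630036900022834843871646742371639649169359763176074669947879636084672221567138342626237688161932695950054555345114144625213646891966193765234235398557221796419443329256496585419801060120949025622307007506674418004915578760444226552418159418760837649501004603960422496306496472023313068823241253079079417252954033440686081)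 (.leaf 555914910398668298655682136517801765239784822963176456406949190969167089240622126881598394597043888836022640539078095299360284961226725140136819056105653504310437879761738657336540422764124818358996168685070678348135981503486797578679166469108075809402476995991363071635985020490318865222143726200388614435439871869845506)) (.leaf 555914910398668298655682136517801765239784822963176456406949190969167089240622126881598394597043888836022640539078095299360284961226725140136819056105653504310437879761738657336540422764124818358996168685070678348135981503486797578679166469108075809402476995991363071635985020490318865222143726200388614435439871869845506))

/-- the table -/
noncomputable def TT : ℕ → ℕ → ℕ := tabT20 TR

/-- the number of points -/
def tN : ℕ := 54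

end Cfsg.Agent.Lib.Helper12.TCG.SU32x54
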